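import Groth.Prelude.Def_ChGrp
import Groth.Agent.Stk19b.Quot.Basic

/-! Points calculus for balanced products and homogeneous spaces. -/

set_option autoImplicit false
set_option backward.isDefEq.respectTransparency.types false

universe u

open CategoryTheory CategoryTheory.Limits MonoidalCategory CartesianMonoidalCategory MonObj GrpObj AlgebraicGeometry

namespace Groth.Agent.ChGrp24

variable {S : Scheme.{u}}

/-- A covering of `B` on which `p` acquires sections, pulled back along `f : T ⟶ B` and used to produce sections. -/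
theorem isLocallyTrivialFor_of_lift {K : Precoverage Scheme.{u}} [K.IsStableUnderBaseChange] {P B E T : Over S}
    (p : P ⟶ B) (hp : NonAbH1.IsLocallyTrivialFor K (Over.mk p.left : Over B.left)) (f : T ⟶ B) (π : E ⟶ T)
    (h : ∀ {W : Over S} (s : W ⟶ T) (g : W ⟶ P), g ≫ p = s ≫ f → ∃ e : W ⟶ E, e ≫ π = s) :
    NonAbH1.IsLocallyTrivialFor K (Over.mk π.left : Over T.left) := by
  obtain ⟨R, hR, hsec⟩ := hp
  obtain ⟨I, Y, c, rfl⟩ := R.exists_eq_ofArrows
  refine ⟨Presieve.ofArrows (fun i => pullback f.left (c i)) (fun i => pullback.fst f.left (c i)),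
    Precoverage.mem_coverings_of_isPullback c hR f.left _ (fun i => pullback.snd f.left (c i))
      (fun i => IsPullback.of_hasPullback _ _), ?_⟩
  rintro S' k ⟨i⟩
  obtain ⟨v, hv⟩ := hsec (c i) ⟨i⟩
  let W : Over S := Over.mk (pullback.fst f.left (c i) ≫ T.hom)
  let s : W ⟶ T := Over.homMk (pullback.fst f.left (c i)) rfl
  have hg : (pullback.snd f.left (c i) ≫ v) ≫ p.left = pullback.fst f.left (c i) ≫ f.left := by
    rw [Category.assoc]
    exact (congrArg (_ ≫ ·) hv).trans pullback.condition.symm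
  let g : W ⟶ P := Over.homMk (pullback.snd f.left (c i) ≫ v) (by
    show _ ≫ P.hom = pullback.fst f.left (c i) ≫ T.hom
    rw [← Over.w p, ← Category.assoc, hg, Category.assoc, Over.w f])
  obtain ⟨e, he⟩ := h s g (Over.OverMorphism.ext hg)
  exact ⟨e.left, congrArg CommaMorphism.left he⟩

variable {G H : Over S} [GrpObj G] [GrpObj H]

/-- Left translation on the first factor, on points. -/
theorem lift_translate {Z T : Over S} (g a : T ⟶ G) (z : T ⟶ Z) :
    lift g (lift a z) ≫ ((NonAbH1.trivialAction G).prod (AlgGrp.Action.trivial G Z)).act = lift (g * a) z := by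
  rw [AlgGrp.Action.lift_prod_act, AlgGrp.Action.lift_trivial_act,
    show lift g a ≫ (NonAbH1.trivialAction G).act = g * a from (Hom.mul_def g a).symm]

theorem homog_unique {Q : Over S} {i : H ⟶ G} {aQ : AlgGrp.Action G Q} {q₀ : 𝟙_ (Over S) ⟶ Q}
    {K : Precoverage Scheme.{u}} (hh : ChGrp.IsHomog K i aQ q₀) {T : Over S} {g₁ g₂ : T ⟶ G}
    (e : g₁ ≫ aQ.orbitMap q₀ = g₂ ≫ aQ.orbitMap q₀) :
    ∃! w : T ⟶ H, g₁ * (w ≫ i) = g₂ := by
  refine ⟨hh.2.1.lift g₁ g₂ e ≫ snd G H, ?_, fun w hw => ?_⟩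
  · have h1 := hh.2.1.lift_fst g₁ g₂ e
    have h2 := hh.2.1.lift_snd g₁ g₂ e
    refine Eq.trans ?_ h2
    have : hh.2.1.lift g₁ g₂ e = lift g₁ (hh.2.1.lift g₁ g₂ e ≫ snd G H) := by
      apply CartesianMonoidalCategory.hom_ext
      · rw [lift_fst, h1]
      · rw [lift_snd]
    conv_rhs => rw [this, lift_whiskerLeft_assoc, ← Hom.mul_def]
  · have : lift g₁ w = hh.2.1.lift g₁ g₂ e := by
      apply hh.2.1.hom_ext
      · rw [lift_fst, hh.2.1.lift_fst]
      · rw [lift_whiskerLeft_assoc, ← Hom.mul_def, hw, hh.2.1.lift_snd]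
    rw [← this, lift_snd]

/-- A balanced product from its description on points. -/
theorem isBalProd_of_points {K : Precoverage Scheme.{u}} (i : H ⟶ G) [IsMonHom i] {Z Y : Over S}
    (aZ : AlgGrp.Action H Z) (aY : AlgGrp.Action G Y) (j : G ⊗ Z ⟶ Y)
    (heq : ∀ {T : Over S} (g a : T ⟶ G) (z : T ⟶ Z), lift (g * a) z ≫ j = lift g (lift a z ≫ j) ≫ aY.act)
    (hinv : ∀ {T : Over S} (h : T ⟶ H) (g : T ⟶ G) (z : T ⟶ Z),
      lift (g * (h ≫ i)⁻¹) (lift h z ≫ aZ.act) ≫ j = lift g z ≫ j)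
    (hfree : ∀ {T : Over S} (g g' : T ⟶ G) (z z' : T ⟶ Z), lift g' z' ≫ j = lift g z ≫ j →
      ∃! h : T ⟶ H, g * (h ≫ i)⁻¹ = g' ∧ lift h z ≫ aZ.act = z')
    (hloc : NonAbH1.IsLocallyTrivialFor K (Over.mk j.left : Over Y.left)) :
    ChGrp.IsBalProd K i aZ aY j := by
  have hsp : ∀ {T : Over S} (p : T ⟶ G ⊗ Z), p = lift (p ≫ fst G Z) (p ≫ snd G Z) := fun p => by
    rw [← comp_lift, lift_fst_snd, Category.comp_id]
  refine ⟨?_, ?_, hloc⟩
  · apply AlgGrp.Action.hom_ext_lift₂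
    intro T g p
    rw [hsp p, ← Category.assoc, lift_translate, lift_whiskerLeft_assoc, heq]
  · refine Groth.Agent.Stk19b.Quot.isPullback_of_existsUnique (ChGrp.twist i aZ) j ?_ fun {T} p q hpq => ?_
    · apply AlgGrp.Action.hom_ext_lift₂
      intro T h p
      rw [hsp p, ← Category.assoc, ChGrp.lift_twist_act, hinv, lift_snd_assoc]
    · rw [hsp p, hsp q] at hpq ⊢
      obtain ⟨h, ⟨h1, h2⟩, hu⟩ := hfree _ _ _ _ hpq
      refine ⟨h, ?_, fun h' hh' => ?_⟩
      · show lift h _ ≫ (ChGrp.twist i aZ).act = _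
        rw [ChGrp.lift_twist_act, h1, h2]
      · change lift h' _ ≫ (ChGrp.twist i aZ).act = _ at hh'
        rw [ChGrp.lift_twist_act] at hh'
        have e1 := congrArg (· ≫ fst G Z) hh'
        have e2 := congrArg (· ≫ snd G Z) hh'
        simp only [lift_fst, lift_snd] at e1 e2
        exact hu h' ⟨e1, e2⟩

end Groth.Agent.ChGrp24
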